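import Groth.Prelude.Def_Flat
import Mathlib.Topology.KrullDimension
import Mathlib.Topology.NoetherianSpace
import Mathlib.Topology.Semicontinuity.Basic

/-! Basic facts on combinatorial dimension of topological spaces. -/

set_option autoImplicit false
set_option linter.unusedVariables false

universe u v

open Set Order TopologicalSpace Topology

namespace Groth.Agent.TopDim50

variable {X : Type u} [TopologicalSpace X]

/-- A chain whose members all meet an open set gives the lower bound on the dimension of that set. -/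
theorem length_le_dim_of_open {U : Set X} (hU : IsOpen U) (l : LTSeries (IrreducibleCloseds X))
    (h : ((l.head : Set X) ∩ U).Nonempty) : (l.length : WithBot ℕ∞) ≤ topologicalKrullDim U := by
  let e := IrreducibleCloseds.orderIsoOfIsOpenEmbedding (Subtype.val : U → X) hU.isOpenEmbedding_subtypeVal
  have hmem : ∀ i, ((Subtype.val : U → X) ⁻¹' (l i : Set X)).Nonempty := by
    intro i
    obtain ⟨x, hx, hxU⟩ := h
    exact ⟨⟨x, hxU⟩, (l.monotone (Fin.zero_le i) : (l.head : Set X) ⊆ l i) hx⟩
  let l' : LTSeries {V : IrreducibleCloseds X | ((Subtype.val : U → X) ⁻¹' (V : Set X)).Nonempty} :=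
    LTSeries.mk l.length (fun i => ⟨l i, hmem i⟩) (fun i j hij => l.strictMono hij)
  calc (l.length : WithBot ℕ∞) = (l'.length : WithBot ℕ∞) := rfl
    _ ≤ krullDim _ := l'.length_le_krullDim
    _ = topologicalKrullDim U := (krullDim_eq_of_orderIso e).symm

/-- A chain contained in a closed set gives the lower bound on the dimension of that set. -/
theorem length_le_dim_of_closed {Y : Set X} (hY : IsClosed Y) (l : LTSeries (IrreducibleCloseds X))
    (h : (l.last : Set X) ⊆ Y) : (l.length : WithBot ℕ∞) ≤ topologicalKrullDim Y := by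
  have hsub : ∀ i, (l i : Set X) ⊆ Y := fun i => Subset.trans (l.monotone (Fin.le_last i)) h
  have hirr : ∀ i, IsIrreducible ((Subtype.val : Y → X) ⁻¹' (l i : Set X)) := by
    intro i
    refine ⟨?_, ?_⟩
    · obtain ⟨x, hx⟩ := (l i).isIrreducible.nonempty
      exact ⟨⟨x, hsub i hx⟩, hx⟩
    · intro u v hu hv hu' hv'
      obtain ⟨u', hu'o, rfl⟩ := isOpen_induced_iff.1 hu
      obtain ⟨v', hv'o, rfl⟩ := isOpen_induced_iff.1 hv
      obtain ⟨a, ha, ha'⟩ := hu'
      obtain ⟨b, hb, hb'⟩ := hv'
      obtain ⟨c, hc, hc'⟩ := (l i).isIrreducible.isPreirreducible u' v' hu'o hv'o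
        ⟨a, ha, ha'⟩ ⟨b, hb, hb'⟩
      exact ⟨⟨c, hsub i hc⟩, hc, hc'⟩
  let f : Fin (l.length + 1) → IrreducibleCloseds Y := fun i =>
    ⟨(Subtype.val : Y → X) ⁻¹' (l i : Set X), hirr i, (l i).isClosed.preimage continuous_subtype_val⟩
  have hf : StrictMono f := by
    intro i j hij
    have h1 : (l i : Set X) ⊂ l j := l.strictMono hij
    refine lt_of_le_of_ne (fun x hx => h1.1 hx) fun he => h1.2 ?_
    intro x hx
    have : (⟨x, hsub j hx⟩ : Y) ∈ f i := by rw [he]; exact hx
    exact this
  exact (LTSeries.mk l.length f hf).length_le_krullDim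

theorem dim_le_of_forall_series {c : WithBot ℕ∞}
    (h : ∀ l : LTSeries (IrreducibleCloseds X), (l.length : WithBot ℕ∞) ≤ c) :
    topologicalKrullDim X ≤ c :=
  iSup_le h

theorem dim_mono {s t : Set X} (h : s ⊆ t) : topologicalKrullDim s ≤ topologicalKrullDim t :=
  (IsEmbedding.inclusion h).isInducing.topologicalKrullDim_le

theorem dim_nonneg [Nonempty X] : 0 ≤ topologicalKrullDim X := by
  obtain ⟨x⟩ := ‹Nonempty X›
  exact krullDim_nonneg_iff.2 ⟨⟨closure {x}, isIrreducible_singleton.closure, isClosed_closure⟩⟩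

/-- An irreducible set covered by a locally finite family of closed sets lies in one of them. -/
theorem subset_of_locallyFinite_cover {ι : Type v} {Y : ι → Set X} (hY : ∀ i, IsClosed (Y i))
    (hlf : LocallyFinite Y) {Z : Set X} (hZ : IsIrreducible Z) (hcov : Z ⊆ ⋃ i, Y i) :
    ∃ i, Z ⊆ Y i := by
  classical
  obtain ⟨z, hz⟩ := hZ.nonempty
  obtain ⟨t, ht, htf⟩ := hlf z
  obtain ⟨U, hUt, hUo, hzU⟩ := mem_nhds_iff.1 ht
  have hne : (Z ∩ U).Nonempty := ⟨z, hz, hzU⟩
  by_contra! hnot
  have hmeet : ∀ s : Finset ι, ∃ x ∈ Z ∩ U, ∀ i ∈ s, x ∉ Y i := by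
    intro s
    induction s using Finset.induction_on with
    | empty => exact ⟨z, ⟨hz, hzU⟩, by simp⟩
    | insert a s has ih =>
      obtain ⟨x, ⟨hxZ, hxU⟩, hx⟩ := ih
      obtain ⟨w, hwZ, hwY⟩ := not_subset.1 (hnot a)
      have ho : IsOpen (U ∩ ⋂ i ∈ s, (Y i)ᶜ) :=
        hUo.inter (isOpen_biInter_finset fun i _ => (hY i).isOpen_compl)
      obtain ⟨y, hyZ, ⟨hyU, hys⟩, hya⟩ := hZ.isPreirreducible _ _ ho (hY a).isOpen_compl
        ⟨x, hxZ, hxU, by simpa using hx⟩ ⟨w, hwZ, hwY⟩
      refine ⟨y, ⟨hyZ, hyU⟩, fun i hi => ?_⟩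
      rcases Finset.mem_insert.1 hi with rfl | hi
      · exact hya
      · exact (mem_iInter₂.1 hys i hi)
  obtain ⟨x, ⟨hxZ, hxU⟩, hx⟩ := hmeet htf.toFinset
  obtain ⟨i, hi⟩ := mem_iUnion.1 (hcov hxZ)
  exact hx i (htf.mem_toFinset.2 ⟨x, hi, hUt hxU⟩) hi

theorem dim_eq_iSup_of_closed_cover {ι : Type v} (Y : ι → Set X) (hY : ∀ i, IsClosed (Y i))
    (h : ∀ Z : IrreducibleCloseds X, ∃ i, (Z : Set X) ⊆ Y i) :
    topologicalKrullDim X = ⨆ i, topologicalKrullDim (Y i) := by
  refine le_antisymm (dim_le_of_forall_series fun l => ?_)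
    (iSup_le fun i => topologicalKrullDim_subspace_le X (Y i))
  obtain ⟨i, hi⟩ := h l.last
  exact (length_le_dim_of_closed (hY i) l hi).trans (le_iSup (fun i => topologicalKrullDim (Y i)) i)

theorem dim_eq_iSup_of_locallyFinite_closed_cover {ι : Type v} (Y : ι → Set X)
    (hY : ∀ i, IsClosed (Y i)) (hlf : LocallyFinite Y) (hcov : ⋃ i, Y i = univ) :
    topologicalKrullDim X = ⨆ i, topologicalKrullDim (Y i) :=
  dim_eq_iSup_of_closed_cover Y hY fun Z =>
    subset_of_locallyFinite_cover hY hlf Z.isIrreducible (by simp [hcov])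

theorem dim_eq_iSup_irreducibleComponents :
    topologicalKrullDim X = ⨆ Y ∈ irreducibleComponents X, topologicalKrullDim Y := by
  refine le_antisymm (dim_le_of_forall_series fun l => ?_)
    (iSup₂_le fun Y _ => topologicalKrullDim_subspace_le X Y)
  obtain ⟨Y, hY, hYZ⟩ := exists_mem_irreducibleComponents_subset_of_isIrreducible
    (l.last : Set X) l.last.isIrreducible
  exact (length_le_dim_of_closed (isClosed_of_mem_irreducibleComponents Y hY) l hYZ).trans
    (le_iSup₂ (f := fun (Y : Set X) (_ : Y ∈ irreducibleComponents X) => topologicalKrullDim Y) Y hY)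

theorem dim_eq_iSup_of_open_cover {ι : Type v} (U : ι → Set X) (hU : ∀ i, IsOpen (U i))
    (hcov : ⋃ i, U i = univ) : topologicalKrullDim X = ⨆ i, topologicalKrullDim (U i) := by
  refine le_antisymm (dim_le_of_forall_series fun l => ?_)
    (iSup_le fun i => topologicalKrullDim_subspace_le X (U i))
  obtain ⟨x, hx⟩ := l.head.isIrreducible.nonempty
  obtain ⟨i, hi⟩ := mem_iUnion.1 (hcov.symm ▸ mem_univ x : x ∈ ⋃ i, U i)
  exact (length_le_dim_of_open (hU i) l ⟨x, hx, hi⟩).trans
    (le_iSup (fun i => topologicalKrullDim (U i)) i)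

theorem length_le_localDim (l : LTSeries (IrreducibleCloseds X)) {x : X} (hx : x ∈ l.head) :
    (l.length : WithBot ℕ∞) ≤ FlatMor.localDim X x :=
  le_iInf fun U => length_le_dim_of_open U.1.isOpen l ⟨x, hx, U.2⟩

theorem localDim_le {x : X} (U : Opens X) (hx : x ∈ U) :
    FlatMor.localDim X x ≤ topologicalKrullDim (U : Set X) :=
  iInf_le (fun U : {U : Opens X // x ∈ U} => topologicalKrullDim (U.1 : Set X)) ⟨U, hx⟩

theorem localDim_le_dim (x : X) : FlatMor.localDim X x ≤ topologicalKrullDim X :=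
  (localDim_le ⊤ trivial).trans (topologicalKrullDim_subspace_le X _)

theorem exists_localDim_eq (x : X) :
    ∃ U : Opens X, x ∈ U ∧ FlatMor.localDim X x = topologicalKrullDim (U : Set X) := by
  have hne : (range fun U : {U : Opens X // x ∈ U} => topologicalKrullDim (U.1 : Set X)).Nonempty :=
    ⟨_, ⟨⟨⊤, trivial⟩, rfl⟩⟩
  obtain ⟨U, hU⟩ := csInf_mem hne
  exact ⟨U.1, U.2, hU.symm⟩

theorem upperSemicontinuous_localDim : UpperSemicontinuous fun x : X => FlatMor.localDim X x := by
  intro x c hc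
  obtain ⟨U, hxU, hU⟩ := exists_localDim_eq x
  filter_upwards [U.isOpen.mem_nhds hxU] with y hy
  exact lt_of_le_of_lt ((localDim_le U hy).trans hU.ge) hc

theorem dim_eq_iSup_localDim : topologicalKrullDim X = ⨆ x : X, FlatMor.localDim X x := by
  refine le_antisymm (dim_le_of_forall_series fun l => ?_) (iSup_le localDim_le_dim)
  obtain ⟨x, hx⟩ := l.head.isIrreducible.nonempty
  exact (length_le_localDim l hx).trans (le_iSup (FlatMor.localDim X) x)

theorem dim_eq_iSup_localDim_closedPoints [CompactSpace X] [T0Space X] :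
    topologicalKrullDim X = ⨆ x ∈ {x : X | IsClosed ({x} : Set X)}, FlatMor.localDim X x := by
  refine le_antisymm (dim_le_of_forall_series fun l => ?_) (iSup₂_le fun x _ => localDim_le_dim x)
  obtain ⟨x, hx, hx'⟩ := l.head.isClosed.exists_closed_singleton l.head.isIrreducible.nonempty
  exact (length_le_localDim l hx).trans
    (le_iSup₂ (f := fun (x : X) (_ : x ∈ {x : X | IsClosed ({x} : Set X)}) => FlatMor.localDim X x) x hx')

theorem dim_eq_zero_iff_finite_discrete [NoetherianSpace X] [T0Space X] [Nonempty X] :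
    topologicalKrullDim X = 0 ↔ Finite X ∧ DiscreteTopology X := by
  constructor
  · intro h
    have hmax : ∀ Z : IrreducibleCloseds X, IsMax Z := krullDim_nonpos_iff_forall_isMax.1 h.le
    have : T1Space X := by
      refine ⟨fun x => ?_⟩
      let Z : IrreducibleCloseds X := ⟨closure {x}, isIrreducible_singleton.closure, isClosed_closure⟩
      obtain ⟨y, hy, hy'⟩ := Z.isClosed.exists_closed_singleton Z.isIrreducible.nonempty
      let P : IrreducibleCloseds X := ⟨{y}, isIrreducible_singleton, hy'⟩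
      have hle : P ≤ Z := fun z hz => by
        have : z = y := hz
        exact this ▸ hy
      have hxy : x ∈ P := hmax P hle (subset_closure rfl : x ∈ Z)
      have : x = y := hxy
      exact this ▸ hy'
    have hfin : (univ : Set X).Finite := by
      rw [← sUnion_irreducibleComponents (X := X)]
      refine NoetherianSpace.finite_irreducibleComponents.sUnion fun Z hZ => ?_
      obtain ⟨x, hx⟩ := hZ.1.nonempty
      let P : IrreducibleCloseds X := ⟨{x}, isIrreducible_singleton, isClosed_singleton⟩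
      let Q : IrreducibleCloseds X := ⟨Z, hZ.1, isClosed_of_mem_irreducibleComponents Z hZ⟩
      have hle : Q ≤ P := hmax P (fun z hz => (hz : z = x) ▸ hx)
      exact (finite_singleton x).subset hle
    have : Finite X := finite_univ_iff.1 hfin
    exact ⟨inferInstance, inferInstance⟩
  · rintro ⟨_, _⟩
    exact le_antisymm (topologicalKrullDim_zero_of_discreteTopology X) dim_nonneg

theorem isOpen_singleton_iff_localDim_eq_zero [NoetherianSpace X] [T0Space X] (x : X) :
    IsOpen ({x} : Set X) ↔ FlatMor.localDim X x = 0 := by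
  constructor
  · intro h
    refine le_antisymm ((localDim_le ⟨{x}, h⟩ rfl).trans ?_) (le_iInf fun U => ?_)
    · have : Subsingleton ((⟨{x}, h⟩ : Opens X) : Set X) :=
        ⟨fun a b => Subtype.ext ((a.2 : a.1 = x).trans (b.2 : b.1 = x).symm)⟩
      exact topologicalKrullDim_zero_of_discreteTopology _
    · have : Nonempty (U.1 : Set X) := ⟨⟨x, U.2⟩⟩
      exact dim_nonneg
  · intro h
    obtain ⟨U, hxU, hU⟩ := exists_localDim_eq x
    have : Nonempty (U : Set X) := ⟨⟨x, hxU⟩⟩
    have : DiscreteTopology (U : Set X) :=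
      (dim_eq_zero_iff_finite_discrete.1 (hU.symm.trans h)).2
    have := U.isOpen.isOpenMap_subtype_val _ (isOpen_discrete ({⟨x, hxU⟩} : Set (U : Set X)))
    simpa using this

theorem dim_lt_of_ssubset [IrreducibleSpace X] (hfin : topologicalKrullDim X ≠ ⊤) {Y : Set X}
    (hY : IsClosed Y) (hYX : Y ≠ univ) : topologicalKrullDim Y < topologicalKrullDim X := by
  rcases isEmpty_or_nonempty Y with hemp | hne
  · have : IsEmpty (IrreducibleCloseds Y) :=
      ⟨fun Z => IsEmpty.false Z.isIrreducible.nonempty.some⟩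
    rw [topologicalKrullDim, krullDim_eq_bot]
    exact lt_of_lt_of_le (WithBot.bot_lt_coe (0 : ℕ∞)) (dim_nonneg (X := X))
  · have hYle := topologicalKrullDim_subspace_le X Y
    obtain ⟨a, ha⟩ := WithBot.ne_bot_iff_exists.1
      (ne_bot_of_le_ne_bot (WithBot.coe_ne_bot (a := (0 : ℕ∞))) (dim_nonneg (X := Y)))
    have hat : a ≠ ⊤ := fun h => ne_top_of_le_ne_top hfin hYle (by rw [← ha, h]; rfl)
    obtain ⟨n, rfl⟩ := ENat.ne_top_iff_exists.1 hat
    obtain ⟨l, hl⟩ := le_krullDim_iff.1 (show (n : WithBot ℕ∞) ≤ krullDim (IrreducibleCloseds Y) from ha.le)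
    let T : IrreducibleCloseds X := ⟨univ, IrreducibleSpace.isIrreducible_univ X, isClosed_univ⟩
    let g := IrreducibleCloseds.map (Subtype.val : Y → X) continuous_subtype_val
    have hg : StrictMono g := IrreducibleCloseds.map_strictMono_of_isInducing IsInducing.subtypeVal
    let lg : LTSeries (IrreducibleCloseds X) := l.map g hg
    have hlt : lg.last < T := by
      refine lt_of_le_of_ne (fun _ _ => trivial) fun he => hYX (eq_univ_of_univ_subset ?_)
      have h1 : (lg.last : Set X) ⊆ Y := closure_minimal (by simp) hY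
      rw [he] at h1
      exact h1
    have h2 : ((n + 1 : ℕ) : WithBot ℕ∞) ≤ topologicalKrullDim X := by
      have h3 := LTSeries.length_le_krullDim (lg.snoc T hlt)
      simpa [lg, LTSeries.map, hl, topologicalKrullDim] using h3
    rw [← ha]
    refine lt_of_lt_of_le ?_ h2
    exact_mod_cast Nat.lt_succ_self n

theorem localDim_eq_iSup_of_finite_closed_cover (x : X) {ι : Type v} [Finite ι] (Y : ι → Set X)
    (hY : ∀ i, IsClosed (Y i)) (hx : ∀ i, x ∈ Y i) (hcov : ⋃ i, Y i = univ) :
    FlatMor.localDim X x = ⨆ i, FlatMor.localDim (Y i) ⟨x, hx i⟩ := by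
  refine le_antisymm ?_ (iSup_le fun i => le_iInf fun U => ?_)
  · have hch : ∀ i, ∃ V : Opens X, x ∈ V ∧
        topologicalKrullDim (V ∩ Y i : Set X) ≤ FlatMor.localDim (Y i) ⟨x, hx i⟩ := by
      intro i
      obtain ⟨U, hxU, hU⟩ := exists_localDim_eq (⟨x, hx i⟩ : Y i)
      obtain ⟨V, hVo, hV⟩ := isOpen_induced_iff.1 U.isOpen
      refine ⟨⟨V, hVo⟩, (hV.symm ▸ hxU : (⟨x, hx i⟩ : Y i) ∈ (Subtype.val ⁻¹' V)), ?_⟩
      rw [hU]
      let f : (V ∩ Y i : Set X) → (U : Set (Y i)) := fun z => ⟨⟨z.1, z.2.2⟩, hV ▸ z.2.1⟩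
      have hf : IsInducing f := by
        refine IsInducing.of_comp (by fun_prop) (continuous_subtype_val.comp continuous_subtype_val) ?_
        exact IsInducing.subtypeVal
      exact hf.topologicalKrullDim_le
    choose V hxV hV using hch
    let W : Opens X := ⟨⋂ i, (V i : Set X), isOpen_iInter_of_finite fun i => (V i).isOpen⟩
    have hxW : x ∈ W := mem_iInter.2 hxV
    refine (localDim_le W hxW).trans ?_
    rw [dim_eq_iSup_of_locallyFinite_closed_cover (X := (W : Set X))
      (fun i => (Subtype.val : ↥(W : Set X) → X) ⁻¹' Y i)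
      (fun i => (hY i).preimage continuous_subtype_val) (locallyFinite_of_finite _)
      (by rw [← preimage_iUnion, hcov, preimage_univ])]
    refine iSup_mono fun i => le_trans ?_ (hV i)
    let f : ((Subtype.val : ↥(W : Set X) → X) ⁻¹' Y i) → (V i ∩ Y i : Set X) :=
      fun z => ⟨z.1.1, mem_iInter.1 z.1.2 i, z.2⟩
    have hf : IsInducing f := by
      refine IsInducing.of_comp (by fun_prop) continuous_subtype_val ?_
      exact (IsInducing.comp (X := ↥((Subtype.val : ↥(W : Set X) → X) ⁻¹' Y i)) (Y := ↥(W : Set X)) (Z := X)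
        (f := Subtype.val) (g := Subtype.val) IsInducing.subtypeVal IsInducing.subtypeVal)
    exact hf.topologicalKrullDim_le
  · let O : Opens (Y i) := ⟨(Subtype.val : Y i → X) ⁻¹' (U.1 : Set X), U.1.isOpen.preimage continuous_subtype_val⟩
    refine (localDim_le O (show (⟨x, hx i⟩ : Y i) ∈ O from U.2)).trans ?_
    let f : ↥(O : Set (Y i)) → ↥(U.1 : Set X) := fun z => ⟨z.1.1, z.2⟩
    have hf : IsInducing f := by
      refine IsInducing.of_comp (by fun_prop) continuous_subtype_val ?_
      exact (IsInducing.comp (X := ↥(O : Set (Y i))) (Y := ↥(Y i)) (Z := X)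
        (f := Subtype.val) (g := Subtype.val) IsInducing.subtypeVal IsInducing.subtypeVal)
    exact hf.topologicalKrullDim_le

end Groth.Agent.TopDim50
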